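import Groth.Agent.CanonLib.DimAux
import Groth.Prelude.Def_CohB1
import Mathlib

/-! # Linear forms cutting a cone down to its vertex -/

set_option autoImplicit false

universe u

open MvPolynomial

noncomputable section

namespace Groth.Agent.GradedNormLib

variable {n : ℕ} {k : Type u} [Field k]

local notation "S" => MvPolynomial (Fin (n + 1)) k
local notation "𝒜" => CohB1.polyGrading n k

theorem homogeneousCore_eq_of_minimal {J P : Ideal S} (hJ : J.IsHomogeneous 𝒜) (hP : P ∈ J.minimalPrimes) :
    (P.homogeneousCore 𝒜).toIdeal = P := by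
  have hcore : (P.homogeneousCore 𝒜).toIdeal.IsPrime := Ideal.IsPrime.homogeneousCore hP.1.1
  refine le_antisymm (Ideal.toIdeal_homogeneousCore_le _ _) (hP.2 ⟨hcore, ?_⟩ (Ideal.toIdeal_homogeneousCore_le _ _))
  refine hJ.toIdeal_homogeneousCore_eq_self.ge.trans ?_
  exact Ideal.homogeneousCore_mono 𝒜 hP.1.2

theorem minimal_le_vertex {J P : Ideal S} (hJ : J.IsHomogeneous 𝒜) (hP : P ∈ J.minimalPrimes) :
    P ≤ RingHom.ker (constantCoeff : S →+* k) := by
  intro x hx
  have hhom : P.IsHomogeneous 𝒜 := by
    rw [← homogeneousCore_eq_of_minimal hJ hP]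
    exact HomogeneousIdeal.isHomogeneous _
  have h0 := hhom 0 hx
  have e : ((DirectSum.decompose 𝒜 x) 0 : S) = homogeneousComponent 0 x :=
    decomposition.decompose'_apply x 0
  rw [e] at h0
  rw [homogeneousComponent_zero] at h0
  by_contra hne
  have hu : IsUnit (C (coeff 0 x) : S) := (IsUnit.mk0 _ (by simpa [constantCoeff_eq] using hne)).map C
  exact hP.1.1.ne_top (Ideal.eq_top_of_isUnit_mem _ h0 hu)

theorem vertex_eq_span : RingHom.ker (constantCoeff : S →+* k) = Ideal.span (Set.range X) := by
  refine le_antisymm (fun x hx => ?_) (Ideal.span_le.2 ?_)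
  · have h : x - C (constantCoeff x) ∈ Ideal.span (Set.range (X : Fin (n + 1) → S)) := by
      clear hx
      induction x using MvPolynomial.induction_on' with
      | monomial u a =>
        by_cases hu : u = 0
        · subst hu
          simp
        · have : constantCoeff (monomial u a) = 0 := by simp [constantCoeff_monomial, hu]
          rw [this, map_zero, sub_zero]
          obtain ⟨i, hi⟩ : ∃ i, u i ≠ 0 := by
            by_contra hall
            exact hu (Finsupp.ext fun i => by simpa using (not_exists.1 hall i))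
          refine Ideal.mem_of_dvd _ (X_dvd_monomial.2 (Or.inr hi)) (Ideal.subset_span ⟨i, rfl⟩)
      | add p q hp hq =>
        have := add_mem hp hq
        rw [map_add, map_add]
        convert this using 1
        ring
    rw [RingHom.mem_ker] at hx
    simpa [hx] using h
  · rintro _ ⟨i, rfl⟩
    simp [RingHom.mem_ker]

/-- Either a homogeneous ideal is supported at the vertex, or no minimal prime contains the vertex. -/
theorem dichotomy {J : Ideal S} (hJ : J.IsHomogeneous 𝒜) :
    Ideal.span (Set.range X) ≤ J.radical ∨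
      ∀ P ∈ J.minimalPrimes, ¬ Ideal.span (Set.range X) ≤ P := by
  by_cases h : ∀ P ∈ J.minimalPrimes, Ideal.span (Set.range X) ≤ P
  · left
    rw [← Ideal.sInf_minimalPrimes]
    exact le_sInf h
  · push Not at h
    obtain ⟨Q, hQ, hQX⟩ := h
    right
    intro P hP hPX
    have hV : (Ideal.span (Set.range X) : Ideal S) = P :=
      le_antisymm hPX ((minimal_le_vertex hJ hP).trans vertex_eq_span.le)
    have hQP : Q ≤ P := hV ▸ (minimal_le_vertex hJ hQ).trans vertex_eq_span.le
    exact hQX (hV.le.trans (hP.2 hQ.1 hQP))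

theorem exists_linear_avoid [Infinite k] (J : Ideal S)
    (h : ∀ P ∈ J.minimalPrimes, ¬ Ideal.span (Set.range X) ≤ P) :
    ∃ g : S, g.IsHomogeneous 1 ∧ ∀ P ∈ J.minimalPrimes, g ∉ P := by
  classical
  let L : (Fin (n + 1) → k) →ₗ[k] S := Fintype.linearCombination k X
  let W : J.minimalPrimes → Subspace k (Fin (n + 1) → k) :=
    fun p => Submodule.comap L (p.1.restrictScalars k)
  haveI : Finite J.minimalPrimes :=
    (Ideal.finite_minimalPrimes_of_isNoetherianRing S J).to_subtype
  have hne : ⋃ p, (W p : Set (Fin (n + 1) → k)) ≠ Set.univ := by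
    intro hcov
    obtain ⟨p, hp⟩ := Subspace.exists_eq_top_of_iUnion_eq_univ hcov
    refine h p.1 p.2 (Ideal.span_le.2 ?_)
    rintro _ ⟨i, rfl⟩
    have hi : L (Pi.single i 1) ∈ p.1 := by
      have : Pi.single i 1 ∈ W p := hp ▸ trivial
      exact this
    rwa [Fintype.linearCombination_apply_single, one_smul] at hi
  obtain ⟨c, hc⟩ := (Set.ne_univ_iff_exists_notMem _).1 hne
  refine ⟨L c, ?_, fun P hP hmem => hc (Set.mem_iUnion.2 ⟨⟨P, hP⟩, hmem⟩)⟩
  rw [Fintype.linearCombination_apply]
  refine IsHomogeneous.sum _ _ _ fun i _ => ?_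
  rw [smul_eq_C_mul]
  exact (isHomogeneous_X k i).C_mul _

/-- A homogeneous ideal of dimension at most `d` is cut to the vertex by `d` linear forms. -/
theorem exists_linear_forms [Infinite k] : ∀ (d : ℕ) (J : Ideal S), J.IsHomogeneous 𝒜 →
    ringKrullDim (S ⧸ J) ≤ (d : WithBot ℕ∞) →
    ∃ h : Fin d → S, (∀ i, (h i).IsHomogeneous 1) ∧
      Ideal.span (Set.range X) ≤ (J ⊔ Ideal.span (Set.range h)).radical := by
  intro d
  induction d with
  | zero =>
    intro J hJ hd
    refine ⟨Fin.elim0, fun i => i.elim0, ?_⟩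
    rcases dichotomy hJ with h | h
    · exact h.trans (Ideal.radical_mono le_sup_left)
    · by_cases htop : J = ⊤
      · rw [htop, top_sup_eq, Ideal.radical_top]
        exact le_top
      exfalso
      obtain ⟨P, hP⟩ : J.minimalPrimes.Nonempty := Set.nonempty_iff_ne_empty.2 fun he =>
        htop ((Ideal.minimalPrimes_eq_empty_iff J).1 he)
      have hle : J ≤ Ideal.span (Set.range X) :=
        (hP.1.2.trans (minimal_le_vertex hJ hP)).trans vertex_eq_span.le
      have h1 : (Ideal.span (Set.range (X : Fin (n + 1) → S))).IsPrime := by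
        rw [← vertex_eq_span]; exact RingHom.ker_isPrime _
      have h2 := (CanonLib.ringKrullDim_succ_le hle (fun P hP hc => h P hP hc)).trans hd
      have h3 : (0 : WithBot ℕ∞) ≤ ringKrullDim (S ⧸ Ideal.span (Set.range (X : Fin (n + 1) → S))) :=
        ringKrullDim_nonneg_of_nontrivial
      have h4 := (le_add_of_nonneg_left h3).trans h2
      norm_num at h4
  | succ d ih =>
    intro J hJ hd
    rcases dichotomy hJ with h | h
    · exact ⟨fun _ => 0, fun _ => isHomogeneous_zero _ _ _, h.trans (Ideal.radical_mono le_sup_left)⟩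
    obtain ⟨g, hg, hav⟩ := exists_linear_avoid J h
    have hJ' : (J ⊔ Ideal.span {g}).IsHomogeneous 𝒜 :=
      hJ.sup (Ideal.homogeneous_span _ _ (by
        rintro x rfl
        exact ⟨1, (mem_homogeneousSubmodule _ _).2 hg⟩))
    have hdim := CanonLib.ringKrullDim_succ_le (le_sup_left : J ≤ J ⊔ Ideal.span {g})
      (fun P hP hle => hav P hP (hle (Ideal.mem_sup_right (Ideal.mem_span_singleton_self g))))
    have hdim' : ringKrullDim (S ⧸ (J ⊔ Ideal.span {g})) ≤ (d : WithBot ℕ∞) := by
      have h2 := hdim.trans hd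
      rw [Nat.cast_succ] at h2
      exact ENat.WithBot.add_le_add_one_right_iff.1 h2
    obtain ⟨h', hh', hle⟩ := ih _ hJ' hdim'
    refine ⟨Fin.cons g h', Fin.cases (by simpa using hg) (fun i => by simpa using hh' i), ?_⟩
    refine hle.trans (Ideal.radical_mono ?_)
    rw [sup_assoc, Fin.range_cons, Ideal.span_insert]

end Groth.Agent.GradedNormLib
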