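import Mathlib
import Groth.Agent.FinIntClosure.Basic
import Groth.Agent.ProjRed.Gen

/-! The integral closure of a graded domain, and the conductor-type annihilator of its quotient. -/

set_option autoImplicit false

noncomputable section

universe u

open Polynomial

namespace Groth.Agent.GradedNormLib

variable {k : Type u} [Field k] {G : Type u} [CommRing G] [IsDomain G] [Algebra k G]
  (𝒢 : ℕ → Submodule k G) [GradedAlgebra 𝒢]

/-- `g ↦ ∑ gᵢ Xⁱ`. -/
def expand : G →+* G[X] :=
  (DirectSum.toSemiring (fun i => (monomial i).toAddMonoidHom.comp (𝒢 i).subtype.toAddMonoidHom)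
    (by simp) (fun {i j} a b => by simp [monomial_mul_monomial])).comp
    (DirectSum.decomposeRingEquiv 𝒢).toRingHom

lemma expand_of_mem {i : ℕ} {g : G} (hg : g ∈ 𝒢 i) : expand 𝒢 g = monomial i g := by
  rw [expand, RingHom.comp_apply]
  erw [DirectSum.decompose_of_mem 𝒢 hg]
  erw [DirectSum.toSemiring_of]
  rfl

lemma coeff_expand (g : G) (i : ℕ) : (expand 𝒢 g).coeff i = DirectSum.decompose 𝒢 g i := by
  induction g using DirectSum.Decomposition.inductionOn 𝒢 with
  | zero => simp
  | homogeneous m =>
    rename_i j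
    rw [expand_of_mem 𝒢 m.2, coeff_monomial]
    split_ifs with h
    · subst h; rw [DirectSum.decompose_of_mem_same 𝒢 m.2]
    · rw [DirectSum.decompose_of_mem_ne 𝒢 m.2 h]
  | add a b ha hb => simp [ha, hb]

lemma expand_injective : Function.Injective (expand 𝒢) := fun a b h => by
  apply (DirectSum.decompose 𝒢).injective
  exact DFinsupp.ext fun i => Subtype.ext (by rw [← coeff_expand, ← coeff_expand, h])

variable (L : Type u) [Field L] [Algebra G L] [IsFractionRing G L]

/-- `g ↦ ∑ gᵢ Xⁱ` with coefficients in the fraction field. -/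
def expandL : G →+* L[X] := (mapRingHom (algebraMap G L)).comp (expand 𝒢)

lemma expandL_injective : Function.Injective (expandL 𝒢 L) :=
  (Polynomial.map_injective _ (IsFractionRing.injective G L)).comp (expand_injective 𝒢)

lemma coeff_expandL (g : G) (i : ℕ) :
    (expandL 𝒢 L g).coeff i = algebraMap G L (DirectSum.decompose 𝒢 g i) := by
  show ((expand 𝒢 g).map _).coeff i = _
  rw [coeff_map, coeff_expand]

lemma expandL_of_mem {i : ℕ} {g : G} (hg : g ∈ 𝒢 i) : expandL 𝒢 L g = monomial i (algebraMap G L g) := by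
  show (expand 𝒢 g).map _ = _
  rw [expand_of_mem 𝒢 hg, Polynomial.map_monomial]

lemma injective_comp_expandL :
    Function.Injective ((algebraMap L[X] (FractionRing L[X])).comp (expandL 𝒢 L)) :=
  (IsFractionRing.injective L[X] (FractionRing L[X])).comp (expandL_injective 𝒢 L)

/-- The extension of `expandL` to the fraction field. -/
def expandF : L →+* FractionRing L[X] := IsFractionRing.lift (injective_comp_expandL 𝒢 L)

lemma expandF_algebraMap (g : G) :
    expandF 𝒢 L (algebraMap G L g) = algebraMap L[X] (FractionRing L[X]) (expandL 𝒢 L g) :=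
  IsFractionRing.lift_algebraMap (injective_comp_expandL 𝒢 L) g

/-- Homogeneous fractions of degree `j`. -/
def IsHom (j : ℕ) (w : L) : Prop :=
  expandF 𝒢 L w = algebraMap L[X] (FractionRing L[X]) (monomial j w)

lemma exists_poly {z : L} (hz : IsIntegral G z) :
    ∃ w : L[X], algebraMap L[X] (FractionRing L[X]) w = expandF 𝒢 L z ∧ ∀ n, IsIntegral G (w.coeff n) := by
  obtain ⟨q, hq, hq0⟩ := hz
  have hcomp : (algebraMap L[X] (FractionRing L[X])).comp (expandL 𝒢 L) =
      (expandF 𝒢 L).comp (algebraMap G L) := RingHom.ext fun g => (expandF_algebraMap 𝒢 L g).symm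
  have h0 : (q.map (expandL 𝒢 L)).eval₂ (algebraMap L[X] (FractionRing L[X])) (expandF 𝒢 L z) = 0 := by
    rw [eval₂_map, hcomp, ← hom_eval₂, hq0, map_zero]
  obtain ⟨w, hw⟩ := IsIntegrallyClosed.algebraMap_eq_of_integral (R := L[X]) (K := FractionRing L[X])
    (x := expandF 𝒢 L z) ⟨_, hq.map _, h0⟩
  refine ⟨w, hw, ?_⟩
  letI : Algebra G[X] L[X] := (mapRingHom (algebraMap G L)).toAlgebra
  have hint : IsIntegral G[X] w := by
    refine ⟨q.map (expand 𝒢), hq.map _, IsFractionRing.injective L[X] (FractionRing L[X]) ?_⟩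
    rw [hom_eval₂, map_zero, eval₂_map, hw, RingHom.comp_assoc]
    exact (by rw [← eval₂_map]; exact h0 :
      q.eval₂ ((algebraMap L[X] (FractionRing L[X])).comp (expandL 𝒢 L)) (expandF 𝒢 L z) = 0)
  exact fun n => IsIntegral.coeff hint n

/-- An integral element is a sum of homogeneous integral elements. -/
lemma mem_span_isHom {z : L} (hz : IsIntegral G z) :
    z ∈ Submodule.span G {w : L | IsIntegral G w ∧ ∃ j, IsHom 𝒢 L j w} := by
  classical
  obtain ⟨w, hw, hwi⟩ := exists_poly 𝒢 L hz
  induction hn : w.support.card using Nat.strong_induction_on generalizing z w with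
  | _ n ih =>
    by_cases hw0 : w = 0
    · have : z = 0 := (expandF 𝒢 L).injective (by rw [← hw, hw0, map_zero, map_zero])
      rw [this]; exact zero_mem _
    obtain ⟨a, b, hb, hab⟩ := IsFractionRing.div_surjective G z
    have hb0 : algebraMap G L b ≠ 0 := IsFractionRing.to_map_ne_zero_of_mem_nonZeroDivisors hb
    have hmul : z * algebraMap G L b = algebraMap G L a := by rw [← hab, div_mul_cancel₀ _ hb0]
    have heq : w * expandL 𝒢 L b = expandL 𝒢 L a := by
      apply IsFractionRing.injective L[X] (FractionRing L[X])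
      rw [map_mul, hw, ← expandF_algebraMap, ← map_mul, hmul, expandF_algebraMap]
    have hB0 : expandL 𝒢 L b ≠ 0 := fun h =>
      hb0 (by rw [(injective_iff_map_eq_zero _).1 (expandL_injective 𝒢 L) b h, map_zero])
    set J := w.natDegree
    set M := (expandL 𝒢 L b).natDegree
    set t := w.coeff J with ht
    set bM : G := ((DirectSum.decompose 𝒢 b M : 𝒢 M) : G)
    set aN : G := ((DirectSum.decompose 𝒢 a (J + M) : 𝒢 (J + M)) : G)
    have hbM : algebraMap G L bM ≠ 0 := by
      rw [← coeff_expandL]
      exact Polynomial.leadingCoeff_ne_zero.2 hB0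
    have hlead : t * algebraMap G L bM = algebraMap G L aN := by
      rw [← coeff_expandL, ← coeff_expandL, ← heq, coeff_mul_degree_add_degree]
      rfl
    have ht' : IsHom 𝒢 L J t := by
      refine mul_right_cancel₀ (b := expandF 𝒢 L (algebraMap G L bM)) ?_ ?_
      · exact fun h => hbM ((expandF 𝒢 L).injective (h.trans (map_zero _).symm))
      · rw [← map_mul, hlead, expandF_algebraMap, expandF_algebraMap, expandL_of_mem 𝒢 L (Subtype.prop _),
          expandL_of_mem 𝒢 L (Subtype.prop _), ← map_mul, monomial_mul_monomial, hlead]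
    have hti : IsIntegral G t := hwi J
    have hlt : (w.erase J).support.card < n := by
      rw [support_erase, ← hn]
      exact Finset.card_erase_lt_of_mem (natDegree_mem_support_of_nonzero hw0)
    have hw' : algebraMap L[X] (FractionRing L[X]) (w.erase J) = expandF 𝒢 L (z - t) := by
      rw [map_sub, ← hw, ht', ← map_sub]
      congr 1
      rw [eq_sub_iff_add_eq, add_comm]
      exact monomial_add_erase w J
    have hint' : IsIntegral G (z - t) := hz.sub hti
    have := ih _ hlt hint' (w.erase J) hw' (fun i => by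
      rw [coeff_erase]; split_ifs
      · exact isIntegral_zero
      · exact hwi i) rfl
    have htmem : t ∈ Submodule.span G {w : L | IsIntegral G w ∧ ∃ j, IsHom 𝒢 L j w} :=
      Submodule.subset_span ⟨hti, J, ht'⟩
    simpa using add_mem this htmem

/-- Multiplying a homogeneous integral element into `G` can be done componentwise. -/
lemma component_mul {j : ℕ} {w : L} (hw : IsHom 𝒢 L j w) {c g : G}
    (h : algebraMap G L c * w = algebraMap G L g) (i : ℕ) :
    algebraMap G L (DirectSum.decompose 𝒢 c i) * w = algebraMap G L (DirectSum.decompose 𝒢 g (i + j)) := by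
  have h1 : expandL 𝒢 L c * monomial j w = expandL 𝒢 L g := by
    apply IsFractionRing.injective L[X] (FractionRing L[X])
    rw [map_mul, ← hw, ← expandF_algebraMap, ← map_mul, h, expandF_algebraMap]
  rw [← coeff_expandL, ← coeff_expandL, ← h1, coeff_mul_monomial]

/-- `G⁻/G`. -/
abbrev quotient : Type u :=
  ↥(integralClosure G L) ⧸ LinearMap.range (Algebra.linearMap G ↥(integralClosure G L))

lemma mem_annihilator_iff (c : G) :
    c ∈ Module.annihilator G (quotient (G := G) L) ↔
      ∀ z : L, IsIntegral G z → ∃ g : G, algebraMap G L c * z = algebraMap G L g := by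
  rw [Module.mem_annihilator]
  constructor
  · intro h z hz
    obtain ⟨g, hg⟩ := (Submodule.Quotient.mk_eq_zero _).1
      ((Submodule.Quotient.mk_smul _ c _).trans (h (Submodule.Quotient.mk ⟨z, hz⟩)))
    refine ⟨g, ?_⟩
    have := congrArg Subtype.val hg
    simpa [Algebra.smul_def] using this.symm
  · intro h x
    obtain ⟨z, rfl⟩ := Submodule.Quotient.mk_surjective _ x
    rw [← Submodule.Quotient.mk_smul, Submodule.Quotient.mk_eq_zero]
    obtain ⟨g, hg⟩ := h z z.2
    exact ⟨g, Subtype.ext (by simpa [Algebra.smul_def] using hg.symm)⟩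

/-- The annihilator of `G⁻/G` is homogeneous. -/
theorem isHomogeneous_annihilator :
    (Module.annihilator G (quotient (G := G) L)).IsHomogeneous 𝒢 := by
  intro i c hc
  rw [mem_annihilator_iff] at hc ⊢
  intro z hz
  refine Submodule.span_induction (p := fun z _ => ∃ g : G,
    algebraMap G L (DirectSum.decompose 𝒢 c i) * z = algebraMap G L g) ?_ ?_ ?_ ?_ (mem_span_isHom 𝒢 L hz)
  · rintro w ⟨hw, j, hj⟩
    obtain ⟨g, hg⟩ := hc w hw
    exact ⟨_, component_mul 𝒢 L hj hg i⟩
  · exact ⟨0, by simp⟩
  · rintro x y _ _ ⟨g, hg⟩ ⟨g', hg'⟩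
    exact ⟨g + g', by rw [mul_add, hg, hg', map_add]⟩
  · rintro a x _ ⟨g, hg⟩
    exact ⟨a * g, by rw [Algebra.smul_def, map_mul, ← hg]; ring⟩

variable (h0 : ∀ x ∈ 𝒢 0, x ∈ Set.range (algebraMap k G))

include h0 in
theorem finiteType [IsNoetherianRing G] : Algebra.FiniteType k G := by
  haveI := ((ProjRed.isNoetherianRing_iff 𝒢).1 inferInstance).2
  haveI : Algebra.FiniteType k (𝒢 0) := Algebra.FiniteType.of_surjective (Algebra.ofId k (𝒢 0)) fun x => by
    obtain ⟨c, hc⟩ := h0 x x.2
    exact ⟨c, Subtype.ext hc⟩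
  haveI : IsScalarTower k (𝒢 0) G := ⟨fun c a x => smul_mul_assoc c (a : G) x⟩
  exact Algebra.FiniteType.trans (inferInstance : Algebra.FiniteType k (𝒢 0)) inferInstance

include h0 in
theorem finite_quotient [IsNoetherianRing G] : Module.Finite G (quotient (G := G) L) := by
  haveI := finiteType 𝒢 h0
  haveI := FinIntClosure.finite_integralClosure k G L L
  infer_instance

include h0 in
theorem irrelevant_isMaximal : (HomogeneousIdeal.irrelevant 𝒢).toIdeal.IsMaximal := by
  have hker : (HomogeneousIdeal.irrelevant 𝒢).toIdeal = RingHom.ker (GradedRing.projZeroRingHom 𝒢) :=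
    rfl
  refine Ideal.isMaximal_iff.2 ⟨fun h => ?_, fun J x hle hx hxJ => ?_⟩
  · have h1 : GradedRing.projZeroRingHom 𝒢 (1 : G) = 0 := RingHom.mem_ker.1 (hker.le h)
    rw [map_one] at h1
    exact one_ne_zero h1
  · set x₀ : G := ((DirectSum.decompose 𝒢 x 0 : 𝒢 0) : G) with hx₀
    obtain ⟨c, hc⟩ := h0 x₀ (Subtype.prop _)
    have hc0 : c ≠ 0 := fun h => hx (by
      rw [hker, RingHom.mem_ker]
      show x₀ = 0
      rw [← hc, h, map_zero])
    have hdiff : x - x₀ ∈ (HomogeneousIdeal.irrelevant 𝒢).toIdeal := by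
      rw [hker, RingHom.mem_ker, map_sub, sub_eq_zero]
      show x₀ = ((DirectSum.decompose 𝒢 x₀ 0 : 𝒢 0) : G)
      rw [DirectSum.decompose_of_mem_same 𝒢 (Subtype.prop _)]
    have : x₀ ∈ J := by simpa using sub_mem hxJ (hle hdiff)
    rw [← hc] at this
    have := J.mul_mem_left (algebraMap k G c⁻¹) this
    rwa [← map_mul, inv_mul_cancel₀ hc0, map_one] at this

include h0 in
theorem le_irrelevant {I : Ideal G} (hI : I.IsHomogeneous 𝒢) (hne : I ≠ ⊤) :
    I ≤ (HomogeneousIdeal.irrelevant 𝒢).toIdeal := by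
  intro x hx
  have hmem := hI 0 hx
  obtain ⟨c, hc⟩ := h0 _ (Subtype.prop (DirectSum.decompose 𝒢 x 0))
  by_cases hc0 : c = 0
  · show ((DirectSum.decompose 𝒢 x 0 : 𝒢 0) : G) = 0
    rw [← hc, hc0, map_zero]
  · refine absurd ((Ideal.eq_top_iff_one I).2 ?_) hne
    have := I.mul_mem_left (algebraMap k G c⁻¹) hmem
    rwa [← hc, ← map_mul, inv_mul_cancel₀ hc0, map_one] at this

include h0 in
/-- Finite length forces the annihilator's radical to contain the irrelevant ideal. -/
theorem eq_irrelevant_of_annihilator_le [IsNoetherianRing G]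
    (hfl : IsFiniteLength G (quotient (G := G) L)) (p : Ideal G) [p.IsPrime]
    (hp : Module.annihilator G (quotient (G := G) L) ≤ p) :
    p = (HomogeneousIdeal.irrelevant 𝒢).toIdeal := by
  classical
  haveI : Module.Finite G (quotient (G := G) L) := finite_quotient 𝒢 L h0
  haveI : IsArtinian G (quotient (G := G) L) := (isFiniteLength_iff_isNoetherian_isArtinian.1 hfl).2
  set A := Module.annihilator G (quotient (G := G) L)
  obtain ⟨n, s, hs⟩ := Module.Finite.exists_fin (R := G) (M := quotient (G := G) L)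
  let f : G →ₗ[G] (Fin n → quotient (G := G) L) := LinearMap.pi fun i => LinearMap.toSpanSingleton G _ (s i)
  have hker : LinearMap.ker f = A := by
    ext c
    simp only [LinearMap.mem_ker, f, funext_iff, LinearMap.pi_apply, Pi.zero_apply,
      LinearMap.toSpanSingleton_apply, A, Module.mem_annihilator]
    refine ⟨fun h x => ?_, fun h i => h _⟩
    have hx : x ∈ Submodule.span G (Set.range s) := by rw [hs]; trivial
    induction hx using Submodule.span_induction with
    | mem x hx => obtain ⟨i, rfl⟩ := hx; exact h i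
    | zero => exact smul_zero _
    | add x y _ _ hx hy => rw [smul_add, hx, hy, add_zero]
    | smul a x _ hx => rw [smul_comm, hx, smul_zero]
  haveI : IsArtinian G (G ⧸ A) := by
    rw [← hker]
    exact isArtinian_of_injective (f.ker.liftQ f le_rfl) (LinearMap.ker_eq_bot.1 (Submodule.ker_liftQ_eq_bot _ _ _ le_rfl))
  haveI : IsArtinianRing (G ⧸ A) := isArtinian_of_tower G inferInstance
  have hmax : ∀ q : Ideal G, q.IsPrime → A ≤ q → q.IsMaximal := fun q hq hAq => by
    haveI : (q.map (Ideal.Quotient.mk A)).IsPrime :=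
      Ideal.map_isPrime_of_surjective Ideal.Quotient.mk_surjective (by rwa [Ideal.mk_ker])
    haveI : (q.map (Ideal.Quotient.mk A)).IsMaximal := IsArtinianRing.isMaximal_of_isPrime _
    have := Ideal.comap_isMaximal_of_surjective (Ideal.Quotient.mk A) Ideal.Quotient.mk_surjective
      (K := q.map (Ideal.Quotient.mk A))
    rwa [Ideal.comap_map_of_surjective _ Ideal.Quotient.mk_surjective, ← RingHom.ker_eq_comap_bot,
      Ideal.mk_ker, sup_eq_left.2 hAq] at this
  set q := (p.homogeneousCore 𝒢).toIdeal
  have hqp : q ≤ p := Ideal.toIdeal_homogeneousCore_le 𝒢 p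
  haveI hq : q.IsPrime := Ideal.IsPrime.homogeneousCore ‹_›
  have hAq : A ≤ q := by
    have := Ideal.homogeneousCore_mono 𝒢 hp
    have h2 : (Ideal.homogeneousCore 𝒢 A).toIdeal ≤ q := this
    rwa [(isHomogeneous_annihilator 𝒢 L).toIdeal_homogeneousCore_eq_self] at h2
  have hq' := hmax q hq hAq
  rw [← hq'.eq_of_le (Ideal.IsPrime.ne_top ‹_›) hqp]
  exact hq'.eq_of_le (irrelevant_isMaximal 𝒢 h0).ne_top
    (le_irrelevant 𝒢 h0 (p.homogeneousCore 𝒢).isHomogeneous hq.ne_top)

end Groth.Agent.GradedNormLib
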