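import Groth.Agent.ASp.LiftDim
import Groth.Prelude.Def_CohB1
import Mathlib

/-! # Cutting down closed subsets of projective space by linear forms -/

set_option autoImplicit false

universe u

open AlgebraicGeometry TopologicalSpace Topology MvPolynomial

noncomputable section

namespace Groth.Agent.GradedNormLib

/-- A closed subset containing no irreducible component has smaller dimension. -/
theorem topologicalKrullDim_succ_le {T : Type u} [TopologicalSpace T] {Y : Set T} (hY : IsClosed Y)
    (h : ∀ C ∈ irreducibleComponents T, ¬ C ⊆ Y) :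
    topologicalKrullDim ↥Y + 1 ≤ topologicalKrullDim T := by
  rcases Y.eq_empty_or_nonempty with rfl | hne
  · haveI : IsEmpty (IrreducibleCloseds (∅ : Set T)) := ⟨fun Z => Z.isIrreducible.nonempty.some.2⟩
    rw [topologicalKrullDim, Order.krullDim_eq_bot, WithBot.bot_add]
    exact bot_le
  haveI : Nonempty (IrreducibleCloseds ↥Y) :=
    ⟨⟨closure {(⟨hne.some, hne.some_mem⟩ : Y)}, isIrreducible_singleton.closure, isClosed_closure⟩⟩
  haveI : Nonempty (IrreducibleCloseds T) :=
    ⟨⟨closure {hne.some}, isIrreducible_singleton.closure, isClosed_closure⟩⟩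
  let g : IrreducibleCloseds ↥Y → IrreducibleCloseds T := IrreducibleCloseds.map _ continuous_subtype_val
  have hg : ∀ Z, (g Z : Set T) ⊆ Y := fun Z => closure_minimal (fun x ⟨y, _, hy⟩ => hy ▸ y.2) hY
  have hsm : StrictMono g := IrreducibleCloseds.map_strictMono_of_isInducing IsInducing.subtypeVal
  rw [topologicalKrullDim, topologicalKrullDim, Order.krullDim_eq_iSup_length, Order.krullDim_eq_iSup_length,
    ← WithBot.coe_one, ← WithBot.coe_add, ENat.iSup_add, WithBot.coe_le_coe, iSup_le_iff]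
  intro l
  obtain ⟨C, hC, hlC⟩ := exists_mem_irreducibleComponents_subset_of_isIrreducible _ (g l.last).isIrreducible
  let C' : IrreducibleCloseds T := ⟨C, hC.1, isClosed_of_mem_irreducibleComponents C hC⟩
  have hlt : g l.last < C' := lt_of_le_of_ne hlC fun he => h C hC (by
    have e : (g l.last : Set T) = C := congrArg (fun W : IrreducibleCloseds T => (W : Set T)) he
    exact e ▸ hg l.last)
  refine le_trans ?_ (le_iSup _ ((l.map g hsm).snoc C' hlt))
  simp

attribute [local instance 10] specializationOrder in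
/-- Maps without specializations in their fibres do not raise the dimension. -/
theorem topologicalKrullDim_le_of_fibres {A B : Type u} [TopologicalSpace A] [TopologicalSpace B]
    [QuasiSober A] [T0Space A] [QuasiSober B] [T0Space B] {f : A → B} (hf : Continuous f)
    (h : ∀ a a' : A, f a = f a' → a' ⤳ a → a = a') : topologicalKrullDim A ≤ topologicalKrullDim B := by
  rw [ASp.topologicalKrullDim_eq_krullDim, ASp.topologicalKrullDim_eq_krullDim]
  refine Order.krullDim_le_of_strictMono f fun a b hab => ?_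
  have hs : b ⤳ a := hab.le
  exact lt_of_le_of_ne (show f b ⤳ f a from hs.map hf) fun e => hab.ne (h a b e hs)

variable {n : ℕ} {k : Type u} [Field k]

local notation "S" => MvPolynomial (Fin (n + 1)) k
local notation "𝒜" => CohB1.polyGrading n k

/-- A linear form vanishing on no component. -/
theorem exists_linear_form [Infinite k] {Z : Set (Proj 𝒜)} (hfin : (irreducibleComponents ↥Z).Finite)
    (hcov : ⨆ i, Proj.basicOpen 𝒜 (X i : S) = ⊤) :
    ∃ g : 𝒜 1, ∀ C ∈ irreducibleComponents ↥Z, ∃ z ∈ C, z.1 ∈ Proj.basicOpen 𝒜 g.1 := by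
  classical
  let L : (Fin (n + 1) → k) →ₗ[k] S := Fintype.linearCombination k X
  let W : irreducibleComponents ↥Z → Subspace k (Fin (n + 1) → k) := fun C =>
    ⨅ z : C.1, Submodule.comap L
      (((show ProjectiveSpectrum 𝒜 from z.1.1).asHomogeneousIdeal.toIdeal).restrictScalars k)
  haveI : Finite (irreducibleComponents ↥Z) := hfin.to_subtype
  have hne : ⋃ C, (W C : Set (Fin (n + 1) → k)) ≠ Set.univ := by
    intro hU
    obtain ⟨C, hC⟩ := Subspace.exists_eq_top_of_iUnion_eq_univ hU
    obtain ⟨z, hz⟩ := C.2.1.nonempty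
    obtain ⟨i, hi⟩ := Opens.mem_iSup.1 (hcov.ge (Opens.mem_top z.1))
    have h1 : Pi.single i (1 : k) ∈ W C := hC ▸ Submodule.mem_top
    have h2 := (Submodule.mem_iInf _).1 h1 ⟨z, hz⟩
    rw [Submodule.mem_comap, Fintype.linearCombination_apply_single, one_smul] at h2
    exact hi h2
  obtain ⟨c, hc⟩ := (Set.ne_univ_iff_exists_notMem _).1 hne
  have hhom : L c ∈ 𝒜 1 := by
    rw [Fintype.linearCombination_apply]
    exact Submodule.sum_mem _ fun i _ =>
      Submodule.smul_mem _ _ ((mem_homogeneousSubmodule _ _).2 (isHomogeneous_X k i))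
  refine ⟨⟨L c, hhom⟩, fun C hC => ?_⟩
  by_contra hcon
  push Not at hcon
  refine hc (Set.mem_iUnion.2 ⟨⟨C, hC⟩, (Submodule.mem_iInf _).2 fun z => ?_⟩)
  by_contra hz
  exact hcon z.1 z.2 hz

/-- A closed set of dimension below `d` misses the common zeros of `d` linear forms. -/
theorem exists_forms_of_dim [Infinite k] [NoetherianSpace (Proj 𝒜)]
    (hcov : ⨆ i, Proj.basicOpen 𝒜 (X i : S) = ⊤) :
    ∀ (d : ℕ) (Z : Set (Proj 𝒜)), IsClosed Z → topologicalKrullDim ↥Z + 1 ≤ (d : WithBot ℕ∞) →
      ∃ h : Fin d → 𝒜 1, ∀ z ∈ Z, ∃ j, z ∈ Proj.basicOpen 𝒜 (h j).1 := by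
  intro d
  induction d with
  | zero =>
    intro Z hZ hd
    refine ⟨Fin.elim0, fun z hz => absurd hd ?_⟩
    haveI : Nonempty (IrreducibleCloseds ↥Z) :=
      ⟨⟨closure {(⟨z, hz⟩ : Z)}, isIrreducible_singleton.closure, isClosed_closure⟩⟩
    have h0 : (0 : WithBot ℕ∞) ≤ topologicalKrullDim ↥Z := Order.krullDim_nonneg
    intro hd'
    have := (le_add_of_nonneg_left h0).trans hd'
    norm_num at this
  | succ d ih =>
    intro Z hZ hd
    obtain ⟨g, hg⟩ := exists_linear_form (Z := Z)
      (NoetherianSpace.finite_irreducibleComponents) hcov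
    let Y : Set (Proj 𝒜) := Z \ (Proj.basicOpen 𝒜 g.1 : Set (Proj 𝒜))
    have hY : IsClosed Y := hZ.sdiff (Proj.basicOpen 𝒜 g.1).isOpen
    let Y' : Set Z := Subtype.val ⁻¹' ((Proj.basicOpen 𝒜 g.1 : Set (Proj 𝒜))ᶜ)
    have h1 := topologicalKrullDim_succ_le (Y := Y')
      ((Proj.basicOpen 𝒜 g.1).isOpen.isClosed_compl.preimage continuous_subtype_val) fun C hC hCY => by
        obtain ⟨z, hz, hz'⟩ := hg C hC
        exact hCY hz hz'
    have h2 : topologicalKrullDim ↥Y ≤ topologicalKrullDim ↥Y' := by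
      let φ : Y → Y' := fun y => ⟨⟨y.1, y.2.1⟩, y.2.2⟩
      refine IsInducing.topologicalKrullDim_le (f := φ) ?_
      refine (IsInducing.subtypeVal.of_comp_iff).1 ?_
      exact (IsInducing.subtypeVal.of_comp_iff).1 IsInducing.subtypeVal
    have h3 := ((add_le_add_left h2 1).trans h1)
    have h4 : topologicalKrullDim ↥Z ≤ (d : WithBot ℕ∞) := by
      rw [Nat.cast_succ] at hd
      exact ENat.WithBot.add_le_add_one_right_iff.1 hd
    obtain ⟨h, hh⟩ := ih Y hY (h3.trans h4)
    refine ⟨Fin.cons g h, fun z hz => ?_⟩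
    by_cases hzg : z ∈ Proj.basicOpen 𝒜 g.1
    · exact ⟨0, by simpa using hzg⟩
    · obtain ⟨j, hj⟩ := hh z ⟨hz, hzg⟩
      exact ⟨j.succ, by simpa using hj⟩

end Groth.Agent.GradedNormLib
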