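import Mathlib
import Groth.Agent.GradedNormLib.Basic
import Groth.Agent.RegLocLib.AffineDim
import Groth.Agent.S14359
import Groth.Agent.GrSegreLib.Dim

/-! Normality away from the irrelevant ideal, and depth two of the normalisation. -/

set_option autoImplicit false

noncomputable section

universe u

namespace Groth.Agent.GradedNormLib

variable {k : Type u} [Field k] {G : Type u} [CommRing G] [IsDomain G] [Algebra k G] [IsNoetherianRing G]
  (𝒢 : ℕ → Submodule k G) [GradedAlgebra 𝒢] (h0 : ∀ x ∈ 𝒢 0, x ∈ Set.range (algebraMap k G))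
  (L : Type u) [Field L] [Algebra G L] [IsFractionRing G L]

include h0 in
/-- `G_p` is normal iff `G⁻/G` vanishes at `p`. -/
theorem isIntegrallyClosed_localization_iff (p : Ideal G) [p.IsPrime] :
    IsIntegrallyClosed (Localization.AtPrime p) ↔ ¬ Module.annihilator G (quotient (G := G) L) ≤ p := by
  classical
  let A' := Localization.AtPrime p
  letI : Algebra A' L := (IsLocalization.lift (M := p.primeCompl) (S := A') (g := algebraMap G L)
    fun y => IsUnit.mk0 _ fun h => y.2 (by
      rw [(injective_iff_map_eq_zero _).1 (IsFractionRing.injective G L) _ h]; exact p.zero_mem)).toAlgebra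
  haveI : IsScalarTower G A' L := IsScalarTower.of_algebraMap_eq fun x =>
    (IsLocalization.lift_eq (M := p.primeCompl) (S := A') _ x).symm
  haveI : IsFractionRing A' L :=
    IsFractionRing.isFractionRing_of_isDomain_of_isLocalization p.primeCompl A' L
  have hne : ∀ s : G, s ∉ p → algebraMap G L s ≠ 0 := fun s hs h =>
    hs (by rw [(injective_iff_map_eq_zero _).1 (IsFractionRing.injective G L) _ h]; exact p.zero_mem)
  constructor
  · intro hic hle
    haveI := finite_quotient 𝒢 L h0
    obtain ⟨n, s, hs⟩ := Module.Finite.exists_fin (R := G) (M := quotient (G := G) L)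
    have hloc : ∀ z : quotient (G := G) L, ∃ c : G, c ∉ p ∧ c • z = 0 := fun z => by
      obtain ⟨z, rfl⟩ := Submodule.Quotient.mk_surjective _ z
      obtain ⟨y, hy⟩ := IsIntegrallyClosed.algebraMap_eq_of_integral (R := A') (K := L) (x := (z : L))
        (z.2.tower_top)
      obtain ⟨g, c, rfl⟩ := IsLocalization.exists_mk'_eq p.primeCompl y
      refine ⟨c, c.2, ?_⟩
      rw [← Submodule.Quotient.mk_smul, Submodule.Quotient.mk_eq_zero]
      refine ⟨g, Subtype.ext ?_⟩
      have h1 := congrArg (algebraMap A' L) (IsLocalization.mk'_spec A' g c)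
      rw [map_mul, hy, ← IsScalarTower.algebraMap_apply, ← IsScalarTower.algebraMap_apply] at h1
      show algebraMap G L g = (c : G) • (z : L)
      rw [Algebra.smul_def, ← h1, mul_comm]
    choose c hc hcz using fun i => hloc (s i)
    have hmem : ∏ i, c i ∈ Module.annihilator G (quotient (G := G) L) := by
      rw [Module.mem_annihilator]
      intro x
      have hx : x ∈ Submodule.span G (Set.range s) := by rw [hs]; trivial
      induction hx using Submodule.span_induction with
      | mem x hx =>
        obtain ⟨i, rfl⟩ := hx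
        rw [← Finset.prod_erase_mul _ _ (Finset.mem_univ i), mul_smul, hcz, smul_zero]
      | zero => exact smul_zero _
      | add x y _ _ hx hy => rw [smul_add, hx, hy, add_zero]
      | smul a x _ hx => rw [smul_comm, hx, smul_zero]
    obtain ⟨i, -, hi⟩ := (Ideal.IsPrime.prod_mem_iff (p := p)).1 (hle hmem)
    exact hc i hi
  · intro hnle
    obtain ⟨c, hc, hcp⟩ := SetLike.not_le_iff_exists.1 hnle
    refine (isIntegrallyClosed_iff L).2 fun {x} hx => ?_
    obtain ⟨m, hm⟩ := IsIntegral.exists_multiple_integral_of_isLocalization p.primeCompl x hx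
    obtain ⟨g, hg⟩ := (mem_annihilator_iff L c).1 hc _ hm
    have hcm : c * (m : G) ∈ p.primeCompl := Submonoid.mul_mem _ hcp m.2
    refine ⟨IsLocalization.mk' A' g ⟨_, hcm⟩, mul_right_cancel₀ (hne _ hcm) ?_⟩
    rw [IsScalarTower.algebraMap_apply G A' L, ← map_mul, IsLocalization.mk'_spec,
      ← IsScalarTower.algebraMap_apply, ← IsScalarTower.algebraMap_apply, ← hg, Submonoid.smul_def,
      Algebra.smul_def, map_mul]
    ring

include h0 in
/-- A power of the irrelevant ideal kills a finite length quotient. -/
theorem exists_pow_le_annihilator (hfl : IsFiniteLength G (quotient (G := G) L)) :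
    ∃ n : ℕ, (HomogeneousIdeal.irrelevant 𝒢).toIdeal ^ n ≤ Module.annihilator G (quotient (G := G) L) := by
  refine Ideal.exists_pow_le_of_le_radical_of_fg ?_ (IsNoetherian.noetherian _)
  rw [Ideal.radical_eq_sInf]
  exact le_sInf fun p hp => by
    haveI := hp.2
    exact (eq_irrelevant_of_annihilator_le 𝒢 L h0 hfl p hp.1).ge

include h0 in
/-- The converse: support inside the irrelevant ideal gives finite length. -/
theorem isFiniteLength_of_forall
    (h : ∀ (p : Ideal G) [p.IsPrime], Module.annihilator G (quotient (G := G) L) ≤ p →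
      (HomogeneousIdeal.irrelevant 𝒢).toIdeal ≤ p) :
    IsFiniteLength G (quotient (G := G) L) := by
  set A := Module.annihilator G (quotient (G := G) L)
  haveI := finite_quotient 𝒢 L h0
  haveI : IsArtinianRing (G ⧸ A) := by
    refine isArtinianRing_iff_isNoetherianRing_krullDimLE_zero.2 ⟨inferInstance, Ring.krullDimLE_zero_iff.2 fun q hq => ?_⟩
    have hle : A ≤ q.comap (Ideal.Quotient.mk A) := fun x hx => by
      rw [Ideal.mem_comap, Ideal.Quotient.eq_zero_iff_mem.2 hx]; exact q.zero_mem
    have := h _ hle
    have heq := (irrelevant_isMaximal 𝒢 h0).eq_of_le (Ideal.IsPrime.ne_top inferInstance) this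
    haveI : (q.comap (Ideal.Quotient.mk A)).IsMaximal := heq ▸ irrelevant_isMaximal 𝒢 h0
    rw [← Ideal.map_comap_of_surjective _ Ideal.Quotient.mk_surjective q]
    exact (Ideal.map_eq_top_or_isMaximal_of_surjective _ Ideal.Quotient.mk_surjective inferInstance).resolve_left
      (by rw [Ideal.map_comap_of_surjective _ Ideal.Quotient.mk_surjective q]; exact hq.ne_top)
  refine isFiniteLength_iff_isNoetherian_isArtinian.2 ⟨inferInstance, ?_⟩
  have hT : Module.IsTorsionBySet G (quotient (G := G) L) A := fun x a => Module.mem_annihilator.1 a.2 x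
  letI := hT.module
  haveI := hT.isScalarTower (S := G)
  haveI : Module.Finite (G ⧸ A) (quotient (G := G) L) := Module.Finite.of_restrictScalars_finite G (G ⧸ A) _
  exact isArtinian_of_surjective_algebraMap (R := G ⧸ A) Ideal.Quotient.mk_surjective

include h0 in
/-- The irrelevant ideal contains a regular sequence of length two on the normalisation. -/
theorem exists_regular_pair (hdim : 2 ≤ ringKrullDim G) :
    ∃ a b : G, a ∈ (HomogeneousIdeal.irrelevant 𝒢).toIdeal ∧ b ∈ (HomogeneousIdeal.irrelevant 𝒢).toIdeal ∧
      RingTheory.Sequence.IsWeaklyRegular ↥(integralClosure G L) [a, b] := by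
  classical
  haveI := finiteType 𝒢 h0
  haveI := FinIntClosure.finite_integralClosure k G L L
  set N := integralClosure G L
  set I := (HomogeneousIdeal.irrelevant 𝒢).toIdeal
  haveI hI := irrelevant_isMaximal 𝒢 h0
  haveI : IsFractionRing N L := integralClosure.isFractionRing_of_finite_extension L L
  haveI : IsIntegrallyClosed N := integralClosure.isIntegrallyClosedOfFiniteExtension L
  haveI : IsNoetherianRing N := IsNoetherianRing.of_finite G N
  letI : Algebra k N := ((algebraMap G N).comp (algebraMap k G)).toAlgebra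
  haveI : IsScalarTower k G N := IsScalarTower.of_algebraMap_eq fun _ => rfl
  haveI : Algebra.FiniteType k N := Algebra.FiniteType.trans (inferInstance : Algebra.FiniteType k G) inferInstance
  have hinj : Function.Injective (algebraMap G N) := fun x y h =>
    IsFractionRing.injective G L (congrArg Subtype.val h)
  obtain ⟨a, ha, ha0⟩ : ∃ a ∈ I, a ≠ 0 := by
    refine Submodule.exists_mem_ne_zero_of_ne_bot fun h => ?_
    have hfield : IsField G := Ring.isField_iff_maximal_bot.2 (show (⊥ : Ideal G).IsMaximal from h ▸ hI)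
    letI := hfield.toField
    rw [ringKrullDim_eq_zero_of_field] at hdim
    norm_num at hdim
  have ha0' : algebraMap G N a ≠ 0 := fun h => ha0 (hinj (h.trans (map_zero _).symm))
  -- every maximal ideal of the normalisation has height at least two
  have hht : ∀ P : Ideal N, P.IsMaximal → (2 : ℕ∞) ≤ P.height := fun P hP => by
    obtain ⟨n, -, hn, hloc⟩ := RegLocLib.affine_domain_dim k N
    have h1 := hloc P
    rw [IsLocalization.AtPrime.ringKrullDim_eq_height P (Localization.AtPrime P)] at h1
    have h2 : ringKrullDim G = ringKrullDim N := by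
      refine GrSegreLib.ringKrullDim_eq_of_integral_injective (algebraMap G N) hinj ?_
      exact algebraMap_isIntegral_iff.2 inferInstance
    rw [h2, hn] at hdim
    have h3 : ((2 : ℕ∞) : WithBot ℕ∞) ≤ (P.height : WithBot ℕ∞) := by rw [h1]; exact hdim
    exact_mod_cast h3
  have hfin := associatedPrimes.finite N (N ⧸ Ideal.span {algebraMap G N a})
  obtain ⟨b, hb, hbP⟩ : ∃ b ∈ I, ∀ P ∈ associatedPrimes N (N ⧸ Ideal.span {algebraMap G N a}),
      algebraMap G N b ∉ P := by
    by_contra hcon
    push Not at hcon
    have hsub : (I : Set G) ⊆ ⋃ P ∈ (hfin.toFinset : Set (Ideal N)), (P.comap (algebraMap G N) : Ideal G) := fun b hb => by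
      obtain ⟨P, hP, hbP⟩ := hcon b hb
      exact Set.mem_iUnion₂.2 ⟨P, hfin.mem_toFinset.2 hP, hbP⟩
    obtain ⟨P, hP, hle⟩ := (Ideal.subset_union_prime ⊥ ⊥ fun P hP _ _ => by
      haveI := IsAssociatedPrime.isPrime (hfin.mem_toFinset.1 hP)
      exact Ideal.IsPrime.comap _).1 hsub
    have hP' := hfin.mem_toFinset.1 hP
    haveI hPp : P.IsPrime := IsAssociatedPrime.isPrime hP'
    have heq := hI.eq_of_le (Ideal.IsPrime.ne_top inferInstance) hle
    haveI : (P.comap (algebraMap G N)).IsMaximal := heq ▸ hI
    have hPmax : P.IsMaximal := Ideal.isMaximal_of_isIntegral_of_isMaximal_comap (R := G) P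
      (inferInstanceAs ((P.comap (algebraMap G N)).IsMaximal))
    have h1 := Groth.Agent.S14359.result N _ ha0' P hP'
    have h2 := hht P hPmax
    rw [h1] at h2
    norm_num at h2
  refine ⟨a, b, ha, hb, RingTheory.Sequence.IsWeaklyRegular.cons ?_ (RingTheory.Sequence.IsWeaklyRegular.cons ?_ (RingTheory.Sequence.IsWeaklyRegular.nil _ _))⟩
  · intro x y h
    have h' : algebraMap G N a * x = algebraMap G N a * y := by simpa [Algebra.smul_def] using h
    exact mul_left_cancel₀ ha0' h'
  · intro x y h
    obtain ⟨x, rfl⟩ := Submodule.Quotient.mk_surjective _ x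
    obtain ⟨y, rfl⟩ := Submodule.Quotient.mk_surjective _ y
    simp only [← Submodule.Quotient.mk_smul, Submodule.Quotient.eq, ← smul_sub] at h ⊢
    obtain ⟨w, -, hw⟩ := (Submodule.mem_smul_pointwise_iff_exists _ _ _).1 h
    have hz : algebraMap G N b • Ideal.Quotient.mk (Ideal.span {algebraMap G N a}) (x - y) = 0 := by
      show Submodule.Quotient.mk (algebraMap G N b * (x - y)) = 0
      rw [Submodule.Quotient.mk_eq_zero, Ideal.mem_span_singleton]
      exact ⟨w, by rw [← Algebra.smul_def, ← Algebra.smul_def, hw]⟩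
    by_cases hxy : Ideal.Quotient.mk (Ideal.span {algebraMap G N a}) (x - y) = 0
    · obtain ⟨v, hv⟩ := Ideal.mem_span_singleton.1 (Ideal.Quotient.eq_zero_iff_mem.1 hxy)
      exact (Submodule.mem_smul_pointwise_iff_exists _ _ _).2 ⟨v, trivial, by rw [Algebra.smul_def]; exact hv.symm⟩
    · have hmem : algebraMap G N b ∈ ⋃ P ∈ associatedPrimes N (N ⧸ Ideal.span {algebraMap G N a}), (P : Set N) := by
        rw [biUnion_associatedPrimes_eq_zero_divisors]
        exact ⟨_, hxy, hz⟩
      obtain ⟨P, hP, hbP'⟩ := Set.mem_iUnion₂.1 hmem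
      exact absurd hbP' (hbP P hP)

end Groth.Agent.GradedNormLib
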