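import Groth.Agent.GradedNormLib.Dim
import Groth.Agent.PnMapLib.Const
import Groth.Agent.ProjUPLib.Free
import Groth.Agent.S10829
import Groth.Agent.ProjTwistLib.NotQuasiAffine
import Groth.Agent.PicProjLib.Chart

/-! # Projective Noether normalization -/

set_option autoImplicit false
set_option backward.isDefEq.respectTransparency false

universe u

open CategoryTheory CategoryTheory.Limits AlgebraicGeometry TopologicalSpace Opposite MvPolynomial
open Groth.Agent.PullbackMod Groth.Agent.DCohLib Groth.Agent.ParaFLib Groth.Agent.AmpleLib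
open Groth.Agent.ProjTwist

noncomputable section

namespace Groth.Agent.GradedNormLib

/-- Sections whose generating loci cover generate. -/
theorem generatedBy_of_iSup_gl {Y : Scheme.{u}} {L : Y.Modules} (hL : PicF.IsInvertible L) {ι : Type*}
    {s : ι → ProjUP.Γm L} (h : ⨆ i, ProjUPLib.gl (s i) = ⊤) : ProjUP.GeneratedBy L s := fun x => by
  obtain ⟨i, hi⟩ := Opens.mem_iSup.1 (h.ge (Opens.mem_top x))
  refine eq_top_iff.2 fun y _ => ?_
  obtain ⟨r, hr⟩ := ((ProjUPLib.mem_gl_iff hL).1 hi).2 y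
  rw [← hr]
  exact Submodule.smul_mem _ _ (Submodule.subset_span ⟨i, rfl⟩)

/-- A finite map with non-dense image is to a space of larger dimension. -/
theorem surjective_of_isFinite {X Y : Scheme.{u}} (π : X ⟶ Y) [IsFinite π] [IrreducibleSpace Y] (d : ℕ)
    (hY : topologicalKrullDim Y = (d : WithBot ℕ∞)) (hX : topologicalKrullDim X = (d : WithBot ℕ∞)) :
    Surjective π := by
  have hR : IsClosed (Set.range π) := π.isClosedMap.isClosed_range
  refine ⟨Set.range_eq_univ.1 ?_⟩
  by_contra hne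
  haveI : QuasiSober (Set.range π) := hR.isClosedEmbedding_subtypeVal.quasiSober
  have h1 := topologicalKrullDim_succ_le hR fun C hC hCR => hne (Set.eq_univ_of_univ_subset (by
    rw [irreducibleComponents_eq_singleton] at hC
    rwa [Set.mem_singleton_iff.1 hC] at hCR))
  have h2 : topologicalKrullDim X ≤ topologicalKrullDim (Set.range π) :=
    topologicalKrullDim_le_of_fibres (f := Set.rangeFactorization π)
      (π.continuous.subtype_mk _) fun a a' e hs => by
        have e' : π a = π a' := congrArg Subtype.val e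
        haveI := (π.isDiscrete_preimage_singleton (π a)).to_subtype
        have hs' : (⟨a', e'.symm⟩ : (π ⁻¹' {π a} : Set X)) ⤳ ⟨a, rfl⟩ := subtype_specializes_iff _ _ |>.2 hs
        exact (congrArg Subtype.val hs'.eq).symm
  rw [hX] at h2
  rw [hY] at h1
  have h3 := (add_le_add_left h2 1).trans h1
  have h4 : (d + 1 : ℕ) ≤ d := by exact_mod_cast h3
  omega

/-- A morphism to a scheme covered by affine opens with affine preimages is finite if proper. -/
theorem isFinite_of_cover {X Y : Scheme.{u}} (π : X ⟶ Y) [IsProper π] {ι : Type*} (U : ι → Y.Opens)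
    (hcov : ⨆ i, U i = ⊤) (hU : ∀ i, IsAffineOpen (U i)) (hπ : ∀ i, IsAffineOpen (π ⁻¹ᵁ U i)) :
    IsFinite π := by
  refine IsFinite.iff_isProper_and_isAffineHom.2 ⟨inferInstance, ?_⟩
  refine isAffineHom_of_forall_exists_isAffineOpen π fun y => ?_
  obtain ⟨i, hi⟩ := Opens.mem_iSup.1 (hcov.ge (Opens.mem_top y))
  exact ⟨U i, hi, hU i, hπ i⟩

variable {n d : ℕ} {k : Type u} [Field k]

theorem exists_map (X : Scheme.{u}) (ι : X ⟶ CohB1.ProjSpace n k)
    (h : Fin (d + 1) → CohB1.polyGrading n k 1)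
    (hh : ∀ x : X, ∃ j, ι x ∈ Proj.basicOpen (CohB1.polyGrading n k) (h j).1) :
    ∃ π : X ⟶ CohB1.ProjSpace d k, π ≫ CohB1.ProjSpace.toSpec d k = ι ≫ CohB1.ProjSpace.toSpec n k ∧
      (∀ j, π ⁻¹ᵁ AmpleEmb.stdOpen d k j = ι ⁻¹ᵁ Proj.basicOpen (CohB1.polyGrading n k) (h j).1) ∧
      Nonempty ((Scheme.Modules.pullback π).obj (Twist.twistProjSpace d k 1) ≅
        (Scheme.Modules.pullback ι).obj (Twist.twistProjSpace n k 1)) := by
  have hM := PnMapLib.isInvertible_twistOne (k := k) n
  have hN := PnMapLib.isInvertible_twistOne (k := k) d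
  let s : Fin (d + 1) → ProjUP.Γm ((Scheme.Modules.pullback ι).obj (Twist.twistProjSpace n k ((1 : ℕ) : ℤ))) :=
    fun j => ProjUP.pullSec ι _ (polySec n k (h j))
  have hs : ∀ j, ProjUPLib.gl (s j) = ι ⁻¹ᵁ Proj.basicOpen (CohB1.polyGrading n k) (h j).1 := fun j =>
    (ProjUPLib.gl_pullSec ι hM _).trans (congrArg (ι ⁻¹ᵁ ·) (PnMapLib.gl_polySec (h j)))
  have hL := AmpleLib.isInvertible_pullback ι hM
  obtain ⟨π, hπ, τ, hτ⟩ := ProjUPLib.exists_hom_projSpace (ι ≫ CohB1.ProjSpace.toSpec n k) hL s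
    (generatedBy_of_iSup_gl hL (eq_top_iff.2 fun x _ => by
      obtain ⟨j, hj⟩ := hh x
      exact Opens.mem_iSup.2 ⟨j, (hs j).ge hj⟩))
  refine ⟨π, hπ, fun j => ?_, ⟨τ⟩⟩
  rw [← hs j, ← hτ j]
  exact ((ProjUPLib.gl_iso τ _).trans ((ProjUPLib.gl_pullSec π hN _).trans
    (congrArg (π ⁻¹ᵁ ·) (PnMapLib.gl_polySec (PnMapLib.coord d k j))))).symm

theorem isNoetherian_projSpace (n : ℕ) (k : Type u) [Field k] :
    AlgebraicGeometry.IsNoetherian (CohB1.ProjSpace n k) := by
  haveI : CompactSpace (CohB1.ProjSpace n k) :=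
    QuasiCompact.compactSpace_of_compactSpace (CohB1.ProjSpace.toSpec n k)
  haveI : IsLocallyNoetherian (CohB1.ProjSpace n k) :=
    LocallyOfFiniteType.isLocallyNoetherian (CohB1.ProjSpace.toSpec n k)
  exact ⟨⟩

/-- Projective Noether normalization over an infinite field. -/
theorem exists_finite_surjective [Infinite k] (X : Scheme.{u}) (ι : X ⟶ CohB1.ProjSpace n k)
    [IsClosedImmersion ι] (hd : topologicalKrullDim X = (d : WithBot ℕ∞)) :
    ∃ π : X ⟶ CohB1.ProjSpace d k, π ≫ CohB1.ProjSpace.toSpec d k = ι ≫ CohB1.ProjSpace.toSpec n k ∧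
      IsFinite π ∧ Surjective π ∧
      Nonempty ((Scheme.Modules.pullback π).obj (Twist.twistProjSpace d k 1) ≅
        (Scheme.Modules.pullback ι).obj (Twist.twistProjSpace n k 1)) := by
  haveI := isNoetherian_projSpace n k
  haveI : NoetherianSpace (Proj (CohB1.polyGrading n k)) :=
    inferInstanceAs (NoetherianSpace (CohB1.ProjSpace n k))
  have hrange : topologicalKrullDim (Set.range ι) + 1 ≤ ((d + 1 : ℕ) : WithBot ℕ∞) := by
    rw [← IsHomeomorph.topologicalKrullDim_eq _ ι.isClosedEmbedding.isEmbedding.toHomeomorph.isHomeomorph, hd]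
    exact le_of_eq (by norm_cast)
  obtain ⟨h, hh⟩ := exists_forms_of_dim (AmpleEmb.iSup_stdOpen n k) (d + 1) (Set.range ι)
    ι.isClosedEmbedding.isClosed_range hrange
  obtain ⟨π, hπ, hpre, hτ⟩ := exists_map X ι h fun x => hh _ ⟨x, rfl⟩
  haveI : IsProper (π ≫ CohB1.ProjSpace.toSpec d k) := by rw [hπ]; infer_instance
  haveI : IsProper π := IsProper.of_comp π (CohB1.ProjSpace.toSpec d k)
  haveI : IsFinite π := isFinite_of_cover π (AmpleEmb.stdOpen d k) (AmpleEmb.iSup_stdOpen d k)
    (fun j => Proj.isAffineOpen_basicOpen _ _ (PnMapLib.coord d k j).2 one_pos) fun j => by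
      rw [hpre j]
      exact (Proj.isAffineOpen_basicOpen _ _ (h j).2 one_pos).preimage ι
  haveI := PicProjLib.isIntegral_projSpace d k
  exact ⟨π, hπ, inferInstance, surjective_of_isFinite π d (S10829.result k d) hd, hτ⟩

end Groth.Agent.GradedNormLib
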